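import Mathlib
import Cfsg.Agent.Rec.Pres

/-! Relators for the Sylow 2-subgroups of `HS`, `L₅(2)` and `U₅(2)`. -/

set_option autoImplicit false

namespace Cfsg.Agent.D8C

/-- Relators for the Sylow 2-subgroup of `HS` (a copy of `HSy.relS`). -/
def relH : List (List ℕ) :=
  [[0, 0], [1, 1], [2, 2], [0, 1, 0, 1, 0, 1, 0, 1], [1, 2, 1, 2, 1, 2, 1, 2], [0, 1, 2, 0, 1,
   2, 0, 2, 1, 0, 2, 1], [0, 1, 2, 1, 0, 2, 0, 1, 2, 1, 0, 2]]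

/-- Relators for the Sylow 2-subgroup of `L₅(2)` (a copy of `Rec.L52.relT`). -/
def relL : List (List ℕ) :=
  [[0, 0], [1, 1], [2, 2], [3, 3], [4, 4], [5, 5], [0, 1, 0, 1], [0, 2, 0, 2], [0, 3, 0, 3], [0,
   4, 0, 4], [0, 5, 0, 5], [1, 2, 1, 2], [1, 3, 1, 3], [1, 4, 1, 4], [1, 5, 1, 5], [2, 3, 2, 3],
   [2, 4, 2, 4], [2, 5, 2, 5], [3, 4, 3, 4], [3, 5, 3, 5], [4, 5, 4, 5], [6, 6], [7, 7], [8, 8],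
   [9, 9], [6, 0, 6, 1, 0], [6, 1, 6, 1], [6, 2, 6, 2], [6, 3, 6, 4, 3], [6, 4, 6, 4], [6, 5, 6,
   5], [7, 0, 7, 2, 0], [7, 1, 7, 1], [7, 2, 7, 2], [7, 3, 7, 5, 3], [7, 4, 7, 4], [7, 5, 7, 5],
   [8, 0, 8, 0], [8, 1, 8, 2, 1], [8, 2, 8, 2], [8, 3, 8, 3], [8, 4, 8, 5, 4], [8, 5, 8, 5], [9,
   0, 9, 0], [9, 1, 9, 1], [9, 2, 9, 2], [9, 3, 9, 3, 0], [9, 4, 9, 4, 1], [9, 5, 9, 5, 2], [6,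
   7, 6, 7], [7, 8, 7, 8], [6, 8, 6, 8, 7], [9, 6, 9, 6], [9, 7, 9, 7], [9, 8, 9, 8]]

/-- Power-conjugate relators for the Sylow 2-subgroup of `U₅(2)` on the letters of `W3.S.St`; the
series is 0, 8, 9, 1, 6, 7, 4, 5, 2, 3. -/
def relU : List (List ℕ) :=
  [[0, 0], [8, 8], [8, 0, 8, 0], [9, 9], [9, 0, 9, 0], [9, 8, 9, 8], [1, 1], [1, 0, 1, 0], [1,
   8, 1, 8], [1, 9, 1, 9], [6, 6, 0], [6, 6, 6, 0, 6, 0], [6, 6, 6, 8, 6, 8], [6, 6, 6, 9, 6,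
   9], [6, 6, 6, 1, 6, 1], [7, 7, 0], [7, 7, 7, 0, 7, 0], [7, 7, 7, 8, 7, 8], [7, 7, 7, 9, 7,
   9], [7, 7, 7, 1, 7, 1], [7, 7, 7, 6, 7, 6], [4, 4], [4, 0, 4, 0], [4, 8, 4, 8], [4, 9, 4, 9,
   0], [4, 1, 4, 1, 8, 0], [4, 6, 4, 6, 0], [4, 7, 4, 7, 0], [5, 5], [5, 0, 5, 0], [5, 8, 5, 8,
   0], [5, 9, 5, 9], [5, 1, 5, 1, 9, 0], [5, 6, 5, 6, 0], [5, 7, 5, 7, 0], [5, 4, 5, 4], [2, 2,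
   1], [2, 2, 2, 0, 2, 0], [2, 2, 2, 8, 2, 8], [2, 2, 2, 9, 2, 9], [2, 2, 2, 1, 2, 1], [2, 2, 2,
   6, 2, 6, 8, 0], [2, 2, 2, 7, 2, 7, 9, 0], [2, 2, 2, 4, 2, 4, 6, 9, 0], [2, 2, 2, 5, 2, 5, 7,
   9, 8, 0], [3, 3, 1], [3, 3, 3, 0, 3, 0], [3, 3, 3, 8, 3, 8], [3, 3, 3, 9, 3, 9], [3, 3, 3, 1,
   3, 1], [3, 3, 3, 6, 3, 6, 9, 8, 0], [3, 3, 3, 7, 3, 7, 8, 0], [3, 3, 3, 4, 3, 4, 7, 9, 0],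
   [3, 3, 3, 5, 3, 5, 7, 6, 9, 8, 0], [3, 3, 3, 2, 3, 2]]

end Cfsg.Agent.D8C
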